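import Groth.Agent.Neron.K531.Defs
import Groth.Agent.Neron.K488.RegBC
import Groth.Agent.VarietyA.GeomRedSch
import Groth.Agent.VarietyA.GeomIrrS
import Groth.Agent.Sga7.H515.SepPoint
import Groth.Agent.PicF.K245.GeomCR
import Groth.Agent.Ega1.GenPts
import Groth.Agent.S2821
import Mathlib.Topology.Separation.Connected
import Mathlib.Topology.Connected.CardComponents

/-!
# Splitting a regular geometrically reduced proper scheme over a finite separable extension

`exists_comps`: if `C/K` is proper, regular and geometrically reduced, there is a finite separable `L/K` such that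
`C_L` is a finite disjoint union of open pieces which are geometrically integral and have a rational point.
-/

set_option autoImplicit false

universe u

open CategoryTheory CategoryTheory.Limits AlgebraicGeometry TopologicalSpace
open Groth.Agent K531.Defs

namespace K472.Comps

/-- The connected components of a Noetherian scheme. -/
theorem exists_conn (X : Scheme.{u}) [NoetherianSpace X] : ∃ (ι : Type u) (_ : Finite ι) (U : ι → X.Opens),
    (∀ i, IsClosed (U i : Set X)) ∧ (∀ i, _root_.IsConnected (U i : Set X)) ∧
    (∀ i j, i ≠ j → Disjoint (U i : Set X) (U j : Set X)) ∧ ∀ x : X, ∃ i, x ∈ U i := by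
  have hfin : Finite (ConnectedComponents X) := by
    have hf : Finite (irreducibleComponents X) := NoetherianSpace.finite_irreducibleComponents.to_subtype
    have hne : ∀ Z : irreducibleComponents X, (Z : Set X).Nonempty := fun Z => Z.2.1.nonempty
    refine Finite.of_surjective (fun Z : irreducibleComponents X => (ConnectedComponents.mk (hne Z).some)) ?_
    intro c
    obtain ⟨x, rfl⟩ := ConnectedComponents.surjective_coe c
    let Z : irreducibleComponents X := ⟨irreducibleComponent x, irreducibleComponent_mem_irreducibleComponents x⟩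
    refine ⟨Z, ?_⟩
    have h1 : (hne Z).some ∈ irreducibleComponent x := (hne Z).some_mem
    have h2 : irreducibleComponent x ⊆ connectedComponent x :=
      irreducibleComponent_subset_connectedComponent
    exact ConnectedComponents.coe_eq_coe'.mpr (h2 h1)
  have hdisc : DiscreteTopology (ConnectedComponents X) := inferInstance
  refine ⟨ConnectedComponents X, hfin, fun c => ⟨ConnectedComponents.mk ⁻¹' {c},
    (isOpen_discrete _).preimage ConnectedComponents.continuous_coe⟩, fun c => ?_, ?_, ?_, ?_⟩
  · change IsClosed (ConnectedComponents.mk ⁻¹' {c} : Set X)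
    exact (isClosed_discrete _).preimage ConnectedComponents.continuous_coe
  · intro c
    obtain ⟨x, rfl⟩ := ConnectedComponents.surjective_coe c
    change _root_.IsConnected ((ConnectedComponents.mk : X → _) ⁻¹' {_} : Set X)
    rw [connectedComponents_preimage_singleton]
    exact isConnected_connectedComponent
  · intro i j hij
    rw [Set.disjoint_left]
    intro x hx hx'
    exact hij (hx.symm.trans hx')
  · intro x
    exact ⟨ConnectedComponents.mk x, rfl⟩

theorem geometricallyReduced_comp {X Y S : Scheme.{u}} (i : X ⟶ Y) [IsOpenImmersion i] (f : Y ⟶ S)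
    [GeometricallyReduced f] : GeometricallyReduced (i ≫ f) := by
  refine ⟨fun K _ y Z fst snd hZ => ?_⟩
  have h1 := IsPullback.of_hasPullback f y
  obtain ⟨c, h2⟩ : ∃ c, IsPullback fst c i (pullback.fst f y) := ⟨_, hZ.of_bot' h1⟩
  have h3 : IsOpenImmersion c := MorphismProperty.of_isPullback h2 inferInstance
  have h4 : IsReduced (pullback f y) := GeometricallyReduced.geometrically_isReduced _ _ _ h1
  exact isReduced_of_isOpenImmersion c

/-- A nonempty geometrically reduced scheme over a separably closed field has a rational point. -/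
theorem exists_section {k : Type u} [Field k] [IsSepClosed k] {D : Scheme.{u}} (f : D ⟶ Spec (CommRingCat.of k))
    [LocallyOfFiniteType f] [GeometricallyReduced f] [Nonempty D] : ∃ x : Spec (CommRingCat.of k) ⟶ D, x ≫ f = 𝟙 _ := by
  have hr : IsReduced D := GeometricallyReduced.isReduced_of_flat_of_isLocallyNoetherian f
  have hd : Dense (f.smoothLocus : Set D) := VarietyA.GeomRedSch.dense_smoothLocus k f
  have hs : Smooth (f.smoothLocus.ι ≫ f) := by
    rw [← Scheme.Hom.smoothLocus_eq_top_iff, ← Scheme.Hom.preimage_smoothLocus_eq]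
    simp
  have hne : Nonempty (f.smoothLocus : Scheme.{u}) := by
    obtain ⟨y, hy⟩ := hd.nonempty
    exact ⟨⟨y, hy⟩⟩
  obtain ⟨K₁, _, _, _, _, s, hs⟩ := Sga7.H515.SepPoint.exists_point (f.smoothLocus.ι ≫ f)
  have hb : Function.Bijective (algebraMap k K₁) :=
    ⟨(algebraMap k K₁).injective, IsSepClosed.algebraMap_surjective k K₁⟩
  have : IsIso (CommRingCat.ofHom (algebraMap k K₁)) :=
    (ConcreteCategory.isIso_iff_bijective _).2 hb
  refine ⟨inv (Spec.map (CommRingCat.ofHom (algebraMap k K₁))) ≫ s ≫ f.smoothLocus.ι, ?_⟩
  rw [Category.assoc, Category.assoc, hs, IsIso.inv_hom_id]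

/-- A point with values in an algebraic extension is defined over a finite extension. -/
theorem exists_factor {K k : Type u} [Field K] [Field k] [Algebra K k] [Algebra.IsAlgebraic K k] {C : Scheme.{u}}
    (g : C ⟶ Spec (CommRingCat.of K)) [LocallyOfFiniteType g] (x : Spec (CommRingCat.of k) ⟶ C) (hx : x ≫ g = sp K k) :
    ∃ (E : IntermediateField K k) (y : Spec (CommRingCat.of E) ⟶ C), FiniteDimensional K E ∧ sp E k ≫ y = x ∧
      y ≫ g = sp K E := by
  obtain ⟨_, ⟨U, hU, rfl⟩, hxU, -⟩ :=
    C.isBasis_affineOpens.exists_subset_of_mem_open (Set.mem_univ (x (IsLocalRing.closedPoint k))) isOpen_univ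
  replace hU : IsAffineOpen U := hU
  let ψ : CommRingCat.of K ⟶ Γ(C, U) := Spec.preimage (hU.fromSpec ≫ g)
  have hψ : Spec.map ψ = hU.fromSpec ≫ g := Spec.map_preimage _
  let _ : Algebra K Γ(C, U) := ψ.hom.toAlgebra
  have hft : Algebra.FiniteType K Γ(C, U) := by
    have h1 : LocallyOfFiniteType (Spec.map ψ) := by rw [hψ]; infer_instance
    exact (HasRingHomProperty.Spec_iff (P := @LocallyOfFiniteType)).1 h1
  have hr : Set.range x ⊆ Set.range hU.fromSpec := by
    rintro _ ⟨p, rfl⟩
    rw [hU.range_fromSpec]
    have : p = IsLocalRing.closedPoint k := Subsingleton.elim (α := PrimeSpectrum k) _ _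
    rw [this]
    exact hxU
  let x' : Spec (CommRingCat.of k) ⟶ Spec Γ(C, U) := IsOpenImmersion.lift hU.fromSpec x hr
  have hx' : x' ≫ hU.fromSpec = x := IsOpenImmersion.lift_fac _ _ _
  let φ : Γ(C, U) ⟶ CommRingCat.of k := Spec.preimage x'
  have hφ : Spec.map φ = x' := Spec.map_preimage _
  have hc : ψ ≫ φ = CommRingCat.ofHom (algebraMap K k) := by
    apply Spec.map_injective
    rw [Spec.map_comp, hψ, hφ, ← Category.assoc, hx', hx]
  let φ' : Γ(C, U) →ₐ[K] k := { φ.hom with commutes' := fun a => congrArg (fun h => h.hom a) hc }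
  obtain ⟨s, hs⟩ : ∃ s : Finset k, Algebra.adjoin K (s : Set k) = φ'.range := by
    have h1 : φ'.range.FG := by
      rw [Subalgebra.fg_iff_finiteType]
      exact Algebra.FiniteType.of_surjective φ'.rangeRestrict φ'.rangeRestrict_surjective
    exact h1
  let E : IntermediateField K k := IntermediateField.adjoin K (s : Set k)
  have hE : FiniteDimensional K E :=
    IntermediateField.finiteDimensional_adjoin fun a _ => Algebra.IsIntegral.isIntegral a
  have hrE : ∀ a, φ' a ∈ E := fun a => by
    have h1 : φ' a ∈ Algebra.adjoin K (s : Set k) := by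
      rw [hs]; exact ⟨a, rfl⟩
    exact IntermediateField.algebra_adjoin_le_adjoin K _ h1
  let φ'' : Γ(C, U) →ₐ[K] E := φ'.codRestrict E.toSubalgebra hrE
  have h1 : Spec.map (CommRingCat.ofHom φ''.toRingHom) ≫ hU.fromSpec ≫ g = sp K E := by
    rw [← hψ, ← Spec.map_comp]
    congr 1
    ext a
    exact congrArg (fun t : E => (t : k)) (φ''.commutes a)
  refine ⟨E, Spec.map (CommRingCat.ofHom φ''.toRingHom) ≫ hU.fromSpec, hE, ?_, ?_⟩
  · rw [← Category.assoc, ← hx', ← hφ]
    congr 1
    rw [← Spec.map_comp]
    rfl
  · rw [Category.assoc, h1]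

/-- Finitely many points with values in an algebraic extension are defined over one finite extension. -/
theorem exists_factor_finite {K k : Type u} [Field K] [Field k] [Algebra K k] [Algebra.IsAlgebraic K k] {C : Scheme.{u}}
    (g : C ⟶ Spec (CommRingCat.of K)) [LocallyOfFiniteType g] {ι : Type u} [Finite ι]
    (x : ι → (Spec (CommRingCat.of k) ⟶ C)) (hx : ∀ i, x i ≫ g = sp K k) :
    ∃ (E : IntermediateField K k) (y : ι → (Spec (CommRingCat.of E) ⟶ C)), FiniteDimensional K E ∧
      (∀ i, sp E k ≫ y i = x i) ∧ ∀ i, y i ≫ g = sp K E := by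
  choose E y hE hy hyg using fun i => exists_factor g (x i) (hx i)
  let L : IntermediateField K k := ⨆ i, E i
  have hL : FiniteDimensional K L := IntermediateField.finiteDimensional_iSup_of_finite
  let inc : ∀ i, E i →ₐ[K] L := fun i => IntermediateField.inclusion (le_iSup E i)
  refine ⟨L, fun i => Spec.map (CommRingCat.ofHom (inc i).toRingHom) ≫ y i, hL, fun i => ?_, fun i => ?_⟩
  · rw [← hy i, ← Category.assoc, ← Spec.map_comp]
    rfl
  · rw [Category.assoc, hyg, ← Spec.map_comp]
    rfl

theorem isRegularScheme_of_isOpenImmersion {U X : Scheme.{u}} (j : U ⟶ X) [IsOpenImmersion j]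
    (hX : ∀ x : X, IsRegularLocalRing (X.presheaf.stalk x)) (y : U) : IsRegularLocalRing (U.presheaf.stalk y) := by
  have := hX (j y)
  exact IsRegularLocalRing.of_ringEquiv (asIso (j.stalkMap y)).commRingCatIsoToRingEquiv

/-- A connected regular geometrically reduced scheme with a rational point is geometrically integral. -/
theorem geometricallyIntegral_of_point {L : Type u} [Field L] {D : Scheme.{u}} (f : D ⟶ Spec (CommRingCat.of L))
    [LocallyOfFiniteType f] [GeometricallyReduced f] [ConnectedSpace D]
    (hD : ∀ x : D, IsRegularLocalRing (D.presheaf.stalk x))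
    (e : Spec (CommRingCat.of L) ⟶ D) (he : e ≫ f = 𝟙 _) : GeometricallyIntegral f := by
  have hc : GeometricallyConnected f := K245.GeomCR.geometricallyConnected_of_point f e he
  let k := SeparableClosure L
  have hgr : Algebra.IsGeometricallyReduced L k := K488.RegBC.isGeometricallyReduced_of_isSeparable L k
  have hreg : Models.IsRegularScheme (pullback f (sp L k)) := K488.RegBC.isRegularScheme_pullback f hD
  have hN : IsLocallyNoetherian (pullback f (sp L k)) :=
    LocallyOfFiniteType.isLocallyNoetherian (pullback.snd f (sp L k))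
  have hcon : ConnectedSpace ↥(pullback f (sp L k)) :=
    GeometricallyConnected.geometrically_connectedSpace _ _ _ (.of_hasPullback _ _)
  have hint : IsIntegral (pullback f (sp L k)) := by
    rw [Ega1.GenPts.isIntegral_iff]
    refine ⟨hcon, fun y => ?_⟩
    have := hreg y
    exact (S2821.result _).1
  have hir : IrreducibleSpace ↥(pullback f (sp L k)) := inferInstance
  have hgi : GeometricallyIrreducible f :=
    VarietyA.GeomIrr.geometricallyIrreducible_of_irreducibleSpace_of_isSepClosed L k f
  exact GeometricallyIntegral.of_geometricallyReduced_of_geometricallyIrreducible f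

/-- **Splitting over a finite separable extension.** -/
theorem exists_comps {K : Type u} [Field K] {C : Scheme.{u}} (g : C ⟶ Spec (CommRingCat.of K)) [IsProper g]
    [GeometricallyReduced g] (hC : ∀ x : C, IsRegularLocalRing (C.presheaf.stalk x)) :
    ∃ (L : Type u) (_ : Field L) (_ : Algebra K L), FiniteDimensional K L ∧ Algebra.IsSeparable K L ∧
      Nonempty (Comps (pullback.snd g (sp K L))) := by
  let k := SeparableClosure K
  let X : Scheme.{u} := pullback g (sp K k)
  have hXc : CompactSpace X := QuasiCompact.compactSpace_of_compactSpace (pullback.snd g (sp K k))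
  have hXn : IsLocallyNoetherian X := LocallyOfFiniteType.isLocallyNoetherian (pullback.snd g (sp K k))
  have hXN : IsNoetherian X := {}
  have hXs : NoetherianSpace X := inferInstance
  obtain ⟨ι, hfin, U, hcl, hcon, hdis, hcov⟩ := exists_conn X
  have hGR : ∀ i, GeometricallyReduced ((U i).ι ≫ pullback.snd g (sp K k)) := fun i =>
    geometricallyReduced_comp _ _
  have hne : ∀ i, Nonempty (U i : Scheme.{u}) := fun i => by
    obtain ⟨y, hy⟩ := (hcon i).nonempty
    exact ⟨⟨y, hy⟩⟩
  choose x hx using fun i => exists_section ((U i).ι ≫ pullback.snd g (sp K k))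
  obtain ⟨E, y, hE, hy, hyg⟩ := exists_factor_finite g (fun i => x i ≫ (U i).ι ≫ pullback.fst g (sp K k)) (fun i => by
    rw [Category.assoc, Category.assoc, pullback.condition, ← Category.assoc, ← Category.assoc, Category.assoc (x i),
      hx i, Category.id_comp])
  have hsep : Algebra.IsSeparable K E := inferInstance
  refine ⟨E, inferInstance, inferInstance, hE, hsep, ?_⟩
  let Y : Scheme.{u} := pullback g (sp K E)
  have hYc : CompactSpace Y := QuasiCompact.compactSpace_of_compactSpace (pullback.snd g (sp K E))
  have hYn : IsLocallyNoetherian Y := LocallyOfFiniteType.isLocallyNoetherian (pullback.snd g (sp K E))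
  have hYN : IsNoetherian Y := {}
  have hYs : NoetherianSpace Y := inferInstance
  have hgr : Algebra.IsGeometricallyReduced K E := K488.RegBC.isGeometricallyReduced_of_isSeparable K E
  have hYreg : Models.IsRegularScheme Y := K488.RegBC.isRegularScheme_pullback g hC
  obtain ⟨κ, hfinκ, V, hVcl, hVcon, hVdis, hVcov⟩ := exists_conn Y
  -- the projection `X ⟶ Y`
  have hsp : sp E k ≫ sp K E = sp K k := by
    rw [← Spec.map_comp]
    rfl
  let π : X ⟶ Y := pullback.lift (pullback.fst g (sp K k)) (pullback.snd g (sp K k) ≫ sp E k) (by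
    rw [Category.assoc, hsp, pullback.condition])
  have hπ : IsPullback π (pullback.snd g (sp K k)) (pullback.snd g (sp K E)) (sp E k) := by
    refine IsPullback.of_right ?_ (pullback.lift_snd _ _ _) (IsPullback.of_hasPullback g (sp K E))
    rw [pullback.lift_fst, hsp]
    exact IsPullback.of_hasPullback g (sp K k)
  have hπs : Surjective π := MorphismProperty.of_isPullback (P := @Surjective) hπ.flip inferInstance
  -- the points over `E`
  let z : ι → (Spec (CommRingCat.of E) ⟶ Y) := fun i => pullback.lift (y i) (𝟙 _) (by rw [hyg i, Category.id_comp])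
  have hz : ∀ i, z i ≫ pullback.snd g (sp K E) = 𝟙 _ := fun i => pullback.lift_snd _ _ _
  have hzx : ∀ i, sp E k ≫ z i = x i ≫ (U i).ι ≫ π := by
    intro i
    apply pullback.hom_ext
    · simp only [z, π, Category.assoc, pullback.lift_fst]
      exact hy i
    · simp only [z, π, Category.assoc, pullback.lift_snd, Category.comp_id]
      have h := congrArg (· ≫ sp E k) (hx i)
      simp only [Category.assoc, Category.id_comp] at h
      exact h.symm
  -- every component contains a point
  have hpt : ∀ a, ∃ i, Set.range (z i) ⊆ (V a : Set Y) := by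
    intro a
    obtain ⟨v, hv⟩ := (hVcon a).nonempty
    obtain ⟨w, rfl⟩ := hπs.surj v
    obtain ⟨i, hi⟩ := hcov w
    have h1 : (U i : Set X) ⊆ π ⁻¹' (V a : Set Y) :=
      (hcon i).isPreconnected.subset_isClopen
        ⟨(hVcl a).preimage π.continuous, (V a).isOpen.preimage π.continuous⟩ ⟨w, hi, hv⟩
    refine ⟨i, ?_⟩
    rintro _ ⟨p, rfl⟩
    obtain ⟨q, rfl⟩ := (sp E k).surjective p
    rw [← Scheme.Hom.comp_apply, hzx i, ← Category.assoc, Scheme.Hom.comp_apply]
    apply h1
    rw [Scheme.Hom.comp_apply]
    exact (x i q).2
  choose i hi using hpt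
  have hCV : ∀ a, ConnectedSpace (V a : Scheme.{u}) := fun a => isConnected_iff_connectedSpace.1 (hVcon a)
  let p : ∀ a, Spec (CommRingCat.of E) ⟶ (V a : Scheme.{u}) := fun a =>
    IsOpenImmersion.lift (V a).ι (z (i a)) (by rw [Scheme.Opens.range_ι]; exact hi a)
  have hp : ∀ a, p a ≫ (V a).ι ≫ pullback.snd g (sp K E) = 𝟙 _ := fun a => by
    rw [← Category.assoc, IsOpenImmersion.lift_fac, hz]
  have hGV : ∀ a, GeometricallyReduced ((V a).ι ≫ pullback.snd g (sp K E)) := fun a =>
    geometricallyReduced_comp _ _
  exact ⟨{ ι := κ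
           finite := hfinκ
           D := fun a => (V a : Scheme.{u})
           j := fun a => (V a).ι
           isOpenImmersion := fun a => inferInstance
           disjoint := fun a b hab => by
             rw [Scheme.Opens.range_ι, Scheme.Opens.range_ι]
             exact hVdis a b hab
           cover := fun v => by
             obtain ⟨a, ha⟩ := hVcov v
             exact ⟨a, by rw [Scheme.Opens.range_ι]; exact ha⟩
           geometricallyIntegral := fun a => geometricallyIntegral_of_point _
             (isRegularScheme_of_isOpenImmersion (V a).ι hYreg) (p a) (hp a)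
           pt := p
           pt_comp := hp }⟩

end K472.Comps
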